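import Cfsg.Agent.H508.KB.Defs

/-!
# S4822 [C5]: the pieces B1 - B3, C0 - C4 as a structure (helper191)
-/

set_option autoImplicit false

open Cfsg Subgroup Cfsg.Agent.H508.KB
open scoped ComplexConjugate

namespace Cfsg.Agent.H191.KB

universe u

/-- the pieces B1 - B3 and C1 - C4 of S4822, as hypotheses -/
structure Deps (p : ℕ) [Fact p.Prime] (M : Ideal AlgInt) : Prop where
  /-- B1 -/
  ar1 : ∀ {K f κ : ℕ}, p - 1 ≤ f * (κ - 1) → f + κ ≤ K + 1 → 1 ≤ κ → GoodN p K f κ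
  /-- B2 -/
  ar2 : ∀ {K f κ k : ℕ}, p + 3 ≤ 2 * k → k ≤ f * (κ - 2) + 2 → 2 * f + κ ≤ K + 2 → 2 ≤ κ → GoodN p K f κ
  /-- B3 -/
  ar3 : ∀ {K f κ : ℕ}, 4 * (p - 1) ≤ κ ^ 2 → f + κ ≤ K + 1 → 1 ≤ f → 1 ≤ κ → GoodN p K f κ
  /-- C0 -/
  hull_normal : ∀ {A : Type u} [Group A] [Finite A] (S : Subgroup A) [S.Normal], ¬ p ∣ S.index → (hull p S).Normal
  /-- C1 -/
  kB_le : ∀ {A : Type u} [Group A] [Finite A] (S : Subgroup A) [S.Normal], ¬ p ∣ S.index →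
    kB M ↥S ≤ (hull p S).index * (kap M S - 1) + 1 ∧ 1 ≤ kap M S
  /-- C1' -/
  kB_le_of_fixed : ∀ {A : Type u} [Group A] [Finite A] (S : Subgroup A) [S.Normal], ¬ p ∣ S.index →
    ∀ (θ : IrrCharacter S), θ ∈ principalBlock M S → (∃ s, (θ : S → ℂ) s ≠ 1) →
    (∀ (a : A) (s : S), (θ : S → ℂ) (MulAut.conjNormal a s) = (θ : S → ℂ) s) →
    kB M ↥S ≤ (hull p S).index * (kap M S - 2) + 2 ∧ 2 ≤ kap M S
  /-- C2 -/
  ker_eq : ∀ {A : Type u} [Group A] [Finite A] (S : Subgroup A) [S.Normal], ¬ p ∣ S.index →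
    ∀ [(hull p S).Normal], ker M S = Nat.card (ConjClasses (A ⧸ hull p S))
  /-- C3 -/
  ker_add_kap_le : ∀ {A : Type u} [Group A] [Finite A] (S : Subgroup A) [S.Normal], ¬ p ∣ S.index →
    ker M S + kap M S ≤ kB M A + 1
  /-- C3' -/
  two_ker_add_kap_le : ∀ {A : Type u} [Group A] [Finite A] (S : Subgroup A) [S.Normal], ¬ p ∣ S.index →
    (∀ a b : A, a * b * a⁻¹ * b⁻¹ ∈ hull p S) → ∀ (ψ : IrrCharacter A), ψ ∈ principalBlock M A →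
    IsIrrCharacter S (fun s : S => (ψ : A → ℂ) s) → (∃ s : S, (ψ : A → ℂ) s ≠ 1) →
    2 * ker M S + kap M S ≤ kB M A + 2
  /-- C4 -/
  card_le_kap : ∀ {A : Type u} [Group A] [Finite A] (S : Subgroup A) [S.Normal], ¬ p ∣ S.index →
    IsSimpleGroup S → ¬ IsMulCommutative S → p ∣ Nat.card S → ∀ X : Finset A,
    (∀ x ∈ X, x ∈ S ∧ ∃ k, orderOf x = p ^ k) → (∀ x ∈ X, ∀ y ∈ X, IsConj x y → x = y) →
    X.card + 1 ≤ kap M S

end Cfsg.Agent.H191.KB
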