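import Cfsg.Agent.H508.KB.Defs
import Cfsg.Agent.H649.Transport
import Cfsg.Agent.H611.CoverPrincipal
import Cfsg.Agent.H191.KB.Deps

/-!
# S4822 [C5, C7 - C10]: the criteria for the rows, from the pieces `Deps` (helper191)
-/

set_option autoImplicit false
set_option linter.unusedSectionVars false

open Cfsg Subgroup Cfsg.Agent.H508.KB
open scoped ComplexConjugate

namespace Cfsg.Agent.H191.KB.Crit


universe u

variable {p : ℕ} [Fact p.Prime] {M : Ideal AlgInt}

/-- transport of `k(B₀)` -/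
theorem kB_congr {S T : Type u} [Group S] [Group T] (e : S ≃* T) : kB M S = kB M T := by
  refine Nat.card_congr ((H649.irrEquiv e).subtypeEquiv fun χ => ?_)
  change χ ∈ principalBlock M S ↔ H649.irrMap e χ ∈ principalBlock M T
  rw [← H649.blkMap_principalBlock e, H649.irrMap_mem_blkMap]

section A

variable {A : Type u} [Group A] (T : Subgroup A) [T.Normal] {S : Type u} [Group S] (e : S ≃* T)

/-- the action of `A` on `S ≃ T` -/
def toAut : A →* MulAut S := (MulAut.congr e.symm).toMonoidHom.comp MulAut.conjNormal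

theorem toAut_apply (a : A) (x : S) : (e (toAut T e a x) : A) = a * e x * a⁻¹ := by
  change ((e (e.symm (MulAut.conjNormal a (e.symm.symm x))) : T) : A) = _
  rw [e.apply_symm_apply]
  exact MulAut.conjNormal_apply a _

theorem toAut_eq_iff (a : A) (x y : S) : toAut T e a x = y ↔ a * e x * a⁻¹ = e y := by
  rw [← toAut_apply]
  constructor
  · intro h; rw [h]
  · intro h; exact e.injective (Subtype.ext h)

theorem toAut_coe (s : S) : toAut T e (e s : A) = MulAut.conj s := by
  ext x
  rw [toAut_eq_iff, MulAut.conj_apply, map_mul, map_mul, map_inv]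
  rfl

theorem toAut_injective (hcen : centralizer (T : Set A) = ⊥) : Function.Injective (toAut T e) := by
  rw [injective_iff_map_eq_one]
  intro a ha
  have h1 : a ∈ centralizer (T : Set A) := by
    rw [mem_centralizer_iff]
    intro t ht
    have h2 := (toAut_eq_iff T e a (e.symm ⟨t, ht⟩) (e.symm ⟨t, ht⟩)).1 (by rw [ha]; rfl)
    rw [e.apply_symm_apply] at h2
    change a * t * a⁻¹ = t at h2
    rw [mul_inv_eq_iff_eq_mul] at h2
    exact h2.symm
  rwa [hcen, mem_bot] at h1

theorem map_toAut : T.map (toAut T e) = (MulAut.conj : S →* MulAut S).range := by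
  ext φ
  rw [mem_map, MonoidHom.mem_range]
  constructor
  · rintro ⟨t, ht, rfl⟩
    refine ⟨e.symm ⟨t, ht⟩, ?_⟩
    rw [← toAut_coe T e, e.apply_symm_apply]
  · rintro ⟨s, rfl⟩
    exact ⟨e s, (e s).2, toAut_coe T e s⟩

theorem conj_range_le : (MulAut.conj : S →* MulAut S).range ≤ (toAut T e).range := by
  rw [← map_toAut T e]
  exact map_le_range _ _

theorem relIndex_range (hcen : centralizer (T : Set A) = ⊥) :
    (MulAut.conj : S →* MulAut S).range.relIndex (toAut T e).range = T.index := by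
  rw [← map_toAut T e, MonoidHom.range_eq_map, relIndex_map_map_of_injective _ _ (toAut_injective T e hcen),
    relIndex_top_right]

theorem conj_range_normal : (MulAut.conj : S →* MulAut S).range.Normal := by
  refine ⟨?_⟩
  rintro _ ⟨g, rfl⟩ φ
  refine ⟨φ g, ?_⟩
  ext x
  change φ g * x * (φ g)⁻¹ = φ (g * (φ⁻¹ x) * g⁻¹)
  rw [map_mul, map_mul, map_inv]
  congr 2
  exact (φ.apply_symm_apply x).symm

include e in
theorem index_le [Finite S] (hcen : centralizer (T : Set A) = ⊥) :
    T.index ≤ (MulAut.conj : S →* MulAut S).range.index := by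
  have := conj_range_normal (S := S)
  rw [← relIndex_range T e hcen]
  exact Nat.le_of_dvd (Nat.pos_of_ne_zero index_ne_zero_of_finite) (relIndex_dvd_index_of_normal _ _)

omit [T.Normal] in
theorem le_hull (p : ℕ) : T ≤ hull p T := le_sup_left

omit [Fact p.Prime] [T.Normal] in
theorem centralizer_le_hull (P : Sylow p T) :
    centralizer (((P : Subgroup T).map T.subtype : Subgroup A) : Set A) ≤ hull p T :=
  (le_iSup (fun P : Sylow p T => centralizer (((P : Subgroup T).map T.subtype : Subgroup A) : Set A)) P).trans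
    le_sup_right

include e in
/-- the commutators of `A` lie in the hull -/
theorem comm_mem_hull [Finite S] [Finite A] (hab : AbOut p S) (hcen : centralizer (T : Set A) = ⊥)
    (hcop : ¬ p ∣ T.index) (a b : A) : a * b * a⁻¹ * b⁻¹ ∈ hull p T := by
  obtain ⟨P⟩ : Nonempty (Sylow p S) := inferInstance
  obtain ⟨s, hs⟩ := hab P (toAut T e).range (conj_range_le T e) (by rwa [relIndex_range T e hcen])
    (toAut T e a) ⟨a, rfl⟩ (toAut T e b) ⟨b, rfl⟩
  rw [← map_inv, ← map_inv, ← map_mul, ← map_mul, ← map_mul] at hs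
  have hsur : Function.Surjective (e.toMonoidHom : S →* T) := e.surjective
  have h1 : (e s : A)⁻¹ * (a * b * a⁻¹ * b⁻¹) ∈
      centralizer (((P.mapSurjective hsur : Subgroup T).map T.subtype : Subgroup A) : Set A) := by
    rw [mem_centralizer_iff]
    rintro _ ⟨_, ⟨x, hx, rfl⟩, rfl⟩
    have h2 := (toAut_eq_iff T e _ _ _).1 (hs x hx)
    rw [map_mul, map_mul, map_inv] at h2
    change _ = (e s : A) * e x * (e s : A)⁻¹ at h2
    change (e x : A) * ((e s : A)⁻¹ * (a * b * a⁻¹ * b⁻¹)) = (e s : A)⁻¹ * (a * b * a⁻¹ * b⁻¹) * (e x : A)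
    generalize a * b * a⁻¹ * b⁻¹ = g at h2 ⊢
    rw [mul_inv_eq_iff_eq_mul] at h2
    rw [mul_assoc, h2]
    group
  have h3 : a * b * a⁻¹ * b⁻¹ = (e s : A) * ((e s : A)⁻¹ * (a * b * a⁻¹ * b⁻¹)) := by
    rw [mul_inv_cancel_left]
  rw [h3]
  exact mul_mem (le_hull T p (e s).2) (centralizer_le_hull T _ h1)

/-- `A / hull` is abelian: `ker = |A : hull|` -/
theorem ker_eq_index [Finite A] (D : Deps.{u} p M) (hcop : ¬ p ∣ T.index)
    (hab : ∀ a b : A, a * b * a⁻¹ * b⁻¹ ∈ hull p T) : ker M T = (hull p T).index := by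
  have := D.hull_normal T hcop
  rw [D.ker_eq T hcop]
  have hc : ∀ x y : A ⧸ hull p T, x * y = y * x := by
    intro x y
    obtain ⟨x, rfl⟩ := QuotientGroup.mk_surjective x
    obtain ⟨y, rfl⟩ := QuotientGroup.mk_surjective y
    rw [← QuotientGroup.mk_mul, ← QuotientGroup.mk_mul, QuotientGroup.eq]
    have h1 := hab y⁻¹ x⁻¹
    rw [inv_inv, inv_inv] at h1
    rw [mul_inv_rev, ← mul_assoc]
    exact h1
  rw [Subgroup.index]
  symm
  refine Nat.card_congr (Equiv.ofBijective ConjClasses.mk ⟨?_, ConjClasses.mk_surjective⟩)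
  intro x y h
  obtain ⟨c, hcx⟩ := isConj_iff.1 (ConjClasses.mk_eq_mk_iff_isConj.1 h)
  rw [← hcx, hc c x, mul_inv_cancel_right]

end A

section C

variable {A : Type u} [Group A] [Finite A] (S : Subgroup A) [S.Normal]

/-- C5: the general criterion -/
theorem good_of_rat (D : Deps.{u} p M) (hcop : ¬ p ∣ S.index) (d : ℕ) (hd : (hull p S).index ≤ d * ker M S)
    (hk : d * (p - 1) + 1 ≤ kB M ↥S) : Good M S p := by
  obtain ⟨h1, h2⟩ := D.kB_le S hcop
  have h3 := D.ker_add_kap_le S hcop
  refine D.ar1 ?_ h3 h2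
  have h4 : d * (p - 1) ≤ (hull p S).index * (kap M S - 1) := by omega
  have h5 : d * (p - 1) ≤ d * (ker M S * (kap M S - 1)) := by
    refine h4.trans ?_
    rw [← mul_assoc]
    exact Nat.mul_le_mul_right _ hd
  rcases Nat.eq_zero_or_pos d with rfl | hd0
  · exfalso
    have h6 : (hull p S).index ≠ 0 := index_ne_zero_of_finite
    omega
  · exact Nat.le_of_mul_le_mul_left h5 hd0

omit [Fact p.Prime] in
theorem one_le_ker (hM : IsPModular p M) : 1 ≤ ker M S := by
  have hMp : M.IsPrime := hM.2.1.isPrime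
  have hfin : Finite {χ : IrrCharacter A // χ ∈ principalBlock M A ∧ ∀ s ∈ S, (χ : A → ℂ) s = (χ : A → ℂ) 1} := by
    have := Cfsg.Agent.Characters.Core.finite_irr (G := A)
    infer_instance
  have hne : Nonempty {χ : IrrCharacter A // χ ∈ principalBlock M A ∧ ∀ s ∈ S, (χ : A → ℂ) s = (χ : A → ℂ) 1} :=
    ⟨⟨⟨fun _ => 1, Blocks.Basic.isIrrCharacter_one⟩, Blocks.Basic.sameBlock_refl _, fun _ _ => rfl⟩⟩
  exact Nat.card_pos

end C

section R

variable {S : Type u} [Group S] [Finite S] [IsSimpleGroup S]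

/-- C7 -/
theorem row_of_ab (D : Deps.{u} p M) (hab : AbOut p S) (hk : p ≤ kB M S) : Row p M S := by
  intro A _ _ T _ ⟨e⟩ hcen hcop
  have h1 := ker_eq_index T D hcop (comm_mem_hull T e hab hcen hcop)
  have hp := (Fact.out : p.Prime).one_lt
  refine good_of_rat T D hcop 1 (by rw [one_mul, h1]) ?_
  rw [← kB_congr e, one_mul]
  omega

/-- C8 -/
theorem row_of_ext (D : Deps.{u} p M) (hM : IsPModular p M) (hab : AbOut p S) (hext : ExtB p M S) (hk : p + 3 ≤ 2 * kB M S) :
    Row p M S := by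
  classical
  intro A _ _ T _ ⟨e⟩ hcen hcop
  have hcomm := comm_mem_hull T e hab hcen hcop
  have h1 := ker_eq_index T D hcop hcomm
  have hr : (T.subtype.comp e.toMonoidHom).range = T := by
    rw [MonoidHom.range_comp, MonoidHom.range_eq_top.2 (show Function.Surjective e.toMonoidHom from e.surjective),
      ← MonoidHom.range_eq_map, range_subtype]
  obtain ⟨ψ, hψ, hirr, hne⟩ := hext A (T.subtype.comp e.toMonoidHom)
    (T.subtype_injective.comp e.injective) (by rw [hr]; infer_instance) (by rw [hr]; exact hcen)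
    (by rw [hr]; exact hcop)
  have hirr' : IsIrrCharacter T (fun t : T => (ψ : A → ℂ) t) := by
    have h2 := Cfsg.Agent.Characters.Core.isIrr_comp e.symm.toMonoidHom e.symm.surjective hirr
    refine (congrArg (IsIrrCharacter T) (funext fun t => ?_)).mp h2
    change (ψ : A → ℂ) ((e (e.symm t) : T) : A) = _
    rw [e.apply_symm_apply]
  have hne' : ∃ s : T, (ψ : A → ℂ) s ≠ 1 := by
    obtain ⟨s, hs⟩ := hne
    exact ⟨e s, hs⟩
  have := Fintype.ofFinite A
  have := Fintype.ofFinite T
  have hθ : (⟨fun t : T => (ψ : A → ℂ) t, hirr'⟩ : IrrCharacter T) ∈ principalBlock M T := by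
    refine H611.CoverPrincipal.mem_principalBlock_of_over p hM T ψ _ ?_ hψ
    rw [Cfsg.Agent.Characters.Core.classInner_irr_self hirr']
    exact one_ne_zero
  obtain ⟨h3, h4⟩ := D.kB_le_of_fixed T hcop ⟨_, hirr'⟩ hθ hne' (by
    intro a s
    change (ψ : A → ℂ) ((MulAut.conjNormal a s : T) : A) = (ψ : A → ℂ) s
    rw [MulAut.conjNormal_apply]
    exact Cfsg.Agent.Characters.Core.isIrr_isClassFunction ψ.2 _ _)
  have h5 := D.two_ker_add_kap_le T hcop hcomm ψ hψ hirr' hne'
  rw [← kB_congr e, ← h1] at h3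
  exact D.ar2 hk h3 h5 h4

/-- C9: many classes of `p`-elements under `Aut(S)` -/
theorem row_of_cls (D : Deps.{u} p M) (hM : IsPModular p M) (hna : ¬ IsMulCommutative S) (hp : p ∣ Nat.card S) (X : Finset S)
    (hX : ∀ x ∈ X, ∃ k, orderOf x = p ^ k) (hcl : ∀ x ∈ X, ∀ y ∈ X, ∀ α : MulAut S, α x = y → x = y)
    (hc : 4 * (p - 1) ≤ (X.card + 1) ^ 2) : Row p M S := by
  classical
  intro A _ _ T _ ⟨e⟩ hcen hcop
  have hinj : Function.Injective (fun x : S => ((e x : T) : A)) := fun x y h => e.injective (Subtype.ext h)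
  have h1 := D.card_le_kap T hcop e.symm.isSimpleGroup (by
      intro h
      refine hna ⟨⟨fun x y => e.injective ?_⟩⟩
      rw [map_mul, map_mul]
      exact h.is_comm.comm _ _) (by rwa [← Nat.card_congr e.toEquiv]) (X.image fun x : S => ((e x : T) : A)) (by
      intro y hy
      obtain ⟨x, hx, rfl⟩ := Finset.mem_image.1 hy
      obtain ⟨k, hk⟩ := hX x hx
      exact ⟨(e x).2, k, by rw [Subgroup.orderOf_coe, MulEquiv.orderOf_eq, hk]⟩) (by
      intro x' hx' y' hy' hc
      obtain ⟨x, hx, rfl⟩ := Finset.mem_image.1 hx'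
      obtain ⟨y, hy, rfl⟩ := Finset.mem_image.1 hy'
      obtain ⟨a, ha⟩ := isConj_iff.1 hc
      rw [hcl x hx y hy (toAut T e a) ((toAut_eq_iff T e a x y).2 ha)])
  rw [Finset.card_image_of_injective _ hinj] at h1
  refine D.ar3 (hc.trans (Nat.pow_le_pow_left h1 2)) (D.ker_add_kap_le T hcop) (one_le_ker T hM) (D.kB_le T hcop).2

/-- C10: `Out(S)` small -/
theorem row_of_inn (D : Deps.{u} p M) (hM : IsPModular p M) (d m : ℕ) (hd : (MulAut.conj : S →* MulAut S).range.index ≤ d)
    (hk : d * m + 1 ≤ kB M S) (hm : 4 * (p - 1) ≤ (m + 1) ^ 2) : Row p M S := by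
  intro A _ _ T _ ⟨e⟩ hcen hcop
  obtain ⟨h1, h2⟩ := D.kB_le T hcop
  have h3 : (hull p T).index ≤ d :=
    ((Nat.le_of_dvd (Nat.pos_of_ne_zero index_ne_zero_of_finite) (index_dvd_of_le (le_hull T p))).trans
      (index_le T e hcen)).trans hd
  rw [← kB_congr e] at h1
  have h4 : d * m ≤ d * (kap M T - 1) := by
    have := Nat.mul_le_mul_right (kap M T - 1) h3
    omega
  have h5 : 0 < d := by
    have h6 : (hull p T).index ≠ 0 := index_ne_zero_of_finite
    omega
  have h6 : m ≤ kap M T - 1 := Nat.le_of_mul_le_mul_left h4 h5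
  refine D.ar3 (hm.trans (Nat.pow_le_pow_left (by omega) 2)) (D.ker_add_kap_le T hcop) (one_le_ker T hM) h2

end R

end Cfsg.Agent.H191.KB.Crit
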