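import Cfsg.Agent.H191.KB.Crit
import Cfsg.Agent.H270.KB.Arith
import Cfsg.Agent.H96.KB.Hull
import Cfsg.Agent.H426.KB.C1
import Cfsg.Agent.H261.KB.Ker
import Cfsg.Agent.H546.KB.Three
import Cfsg.Agent.H735.S4822.Kap

/-!
# S4822 [C5, C7 - C10]: the criteria for the rows (helper191)
-/

set_option autoImplicit false
set_option linter.unusedSectionVars false

open Cfsg Subgroup Cfsg.Agent.H508.KB
open scoped ComplexConjugate

namespace Cfsg.Agent.H191.KB

universe u

variable {p : ℕ} [Fact p.Prime] {M : Ideal AlgInt}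

/-- all the pieces -/
theorem deps (hM : IsPModular p M) : Deps.{u} p M where
  ar1 := fun h hK hκ => H270.KB.ar1 h hK hκ
  ar2 := fun h hk hK hκ => H270.KB.ar2 h hk hK hκ
  ar3 := fun h hK hf hκ => H270.KB.ar3 h hK hf hκ
  hull_normal := by
    intro A _ _ S _ hcop
    obtain ⟨P⟩ : Nonempty (Sylow p S) := inferInstance
    exact (H96.KB.Hull.hull_eq S hcop P).2
  kB_le := fun S _ hcop => H426.KB.kB_le S hM hcop
  kB_le_of_fixed := fun S _ hcop θ hθ h1 hinv => H426.KB.kB_le_of_fixed S hM hcop θ hθ h1 hinv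
  ker_eq := fun S _ hcop _ => H261.KB.Ker.ker_eq S hM hcop
  ker_add_kap_le := fun S _ hcop => H546.KB.ker_add_kap_le S hM hcop
  two_ker_add_kap_le := fun S _ hcop hab ψ hψ hirr h1 =>
    H546.KB.two_ker_add_kap_le S hM hcop hab ψ hψ hirr h1
  card_le_kap := fun S _ hcop hs hna hp X hX hcl => H735.S4822.card_le_kap S hM hcop hs hna hp X hX hcl

section C

variable {A : Type u} [Group A] [Finite A] (S : Subgroup A) [S.Normal]

/-- C5: the general criterion -/
theorem good_of_rat (hM : IsPModular p M) (hcop : ¬ p ∣ S.index) (d : ℕ) (hd : (hull p S).index ≤ d * ker M S)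
    (hk : d * (p - 1) + 1 ≤ kB M ↥S) : Good M S p := Crit.good_of_rat S (deps hM) hcop d hd hk

end C

section R

variable {S : Type u} [Group S] [Finite S] [IsSimpleGroup S]

/-- C7 -/
theorem row_of_ab (hM : IsPModular p M) (hab : AbOut p S) (hk : p ≤ kB M S) : Row p M S :=
  Crit.row_of_ab (deps hM) hab hk

/-- C8 -/
theorem row_of_ext (hM : IsPModular p M) (hab : AbOut p S) (hext : ExtB p M S) (hk : p + 3 ≤ 2 * kB M S) :
    Row p M S := Crit.row_of_ext (deps hM) hM hab hext hk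

/-- C9: many classes of `p`-elements under `Aut(S)` -/
theorem row_of_cls (hM : IsPModular p M) (hna : ¬ IsMulCommutative S) (hp : p ∣ Nat.card S) (X : Finset S)
    (hX : ∀ x ∈ X, ∃ k, orderOf x = p ^ k) (hcl : ∀ x ∈ X, ∀ y ∈ X, ∀ α : MulAut S, α x = y → x = y)
    (hc : 4 * (p - 1) ≤ (X.card + 1) ^ 2) : Row p M S := Crit.row_of_cls (deps hM) hM hna hp X hX hcl hc

/-- C10: `Out(S)` small -/
theorem row_of_inn (hM : IsPModular p M) (d m : ℕ) (hd : (MulAut.conj : S →* MulAut S).range.index ≤ d)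
    (hk : d * m + 1 ≤ kB M S) (hm : 4 * (p - 1) ≤ (m + 1) ^ 2) : Row p M S :=
  Crit.row_of_inn (deps hM) hM d m hd hk hm

end R

end Cfsg.Agent.H191.KB
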